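import Groth.Agent.S10903
import Groth.Agent.RegLoc.Serre
import Groth.Agent.CAlgA.NormalRegular

/-!
# Homogeneous complete intersections regular in codimension one off the vertex

`CIntNormal.isDomain_of_regular`: the coordinate ring is a domain and is normal at the vertex.
-/

set_option autoImplicit false

universe u

open MvPolynomial

namespace Groth.Agent.CIntNormal

variable {k : Type u} [Field k] {n r : ℕ}

/-- The vertex. -/
noncomputable abbrev vertex (k : Type u) [Field k] (n : ℕ) : Ideal (MvPolynomial (Fin (n + 1)) k) :=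
  RingHom.ker (constantCoeff (R := k) (σ := Fin (n + 1)))

theorem vertex_eq : vertex k n = idealOfVars (Fin (n + 1)) k := S10903.ker_constantCoeff_eq k (n + 1)

instance : (vertex k n).IsMaximal :=
  RingHom.ker_isMaximal_of_surjective _ (fun c => ⟨MvPolynomial.C c, constantCoeff_C _ c⟩)

theorem le_vertex (f : Fin r → MvPolynomial (Fin (n + 1)) k) (d : Fin r → ℕ)
    (hf : ∀ i, (f i).IsHomogeneous (d i)) (hd : ∀ i, 0 < d i) : Ideal.span (Set.range f) ≤ vertex k n := by
  refine Ideal.span_le.2 (Set.range_subset_iff.2 fun i => ?_)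
  rw [SetLike.mem_coe, RingHom.mem_ker, constantCoeff_eq]
  exact (hf i).coeff_eq_zero (by simpa using (hd i).ne)

/-- Primes containing all variables are the vertex. -/
theorem eq_vertex {P : Ideal (MvPolynomial (Fin (n + 1)) k)} [P.IsPrime] (h : ∀ i, X i ∈ P) : P = vertex k n := by
  have hle : vertex k n ≤ P := by
    rw [vertex_eq]
    exact Ideal.span_le.2 (Set.range_subset_iff.2 h)
  exact ((inferInstance : (vertex k n).IsMaximal).eq_of_le (Ideal.IsPrime.ne_top ‹_›) hle).symm

/-- A homogeneous ideal is contracted from the vertex. -/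
theorem mem_of_mul_mem (f : Fin r → MvPolynomial (Fin (n + 1)) k) (d : Fin r → ℕ)
    (hf : ∀ i, (f i).IsHomogeneous (d i)) {s z : MvPolynomial (Fin (n + 1)) k} (hs : s ∉ vertex k n)
    (h : s * z ∈ Ideal.span (Set.range f)) : z ∈ Ideal.span (Set.range f) := by
  classical
  set J := Ideal.span (Set.range f)
  have hhom : ∀ w ∈ J, ∀ e, homogeneousComponent e w ∈ J := by
    intro w hw e
    obtain ⟨c, rfl⟩ := (Ideal.mem_span_range_iff_exists_fun).1 hw
    rw [map_sum]
    refine Ideal.sum_mem _ fun i _ => ?_
    rw [← (c i).sum_homogeneousComponent, Finset.sum_mul, map_sum]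
    refine Ideal.sum_mem _ fun j _ => ?_
    rw [homogeneousComponent_of_mem ((homogeneousComponent_isHomogeneous j (c i)).mul (hf i))]
    split_ifs
    · exact J.mul_mem_left _ (Ideal.subset_span ⟨i, rfl⟩)
    · exact J.zero_mem
  suffices H : ∀ e, homogeneousComponent e z ∈ J by
    rw [← z.sum_homogeneousComponent]
    exact Ideal.sum_mem _ fun e _ => H e
  intro e
  induction e using Nat.strong_induction_on with
  | _ e ih =>
    let z' := z - ∑ i ∈ Finset.range e, homogeneousComponent i z
    have hz' : ∀ i, homogeneousComponent i z' = if i < e then 0 else homogeneousComponent i z := by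
      intro i
      simp only [z', map_sub, map_sum]
      rw [Finset.sum_congr rfl fun j _ => homogeneousComponent_of_mem (homogeneousComponent_isHomogeneous j z),
        Finset.sum_ite_eq]
      simp only [Finset.mem_range]
      split_ifs <;> simp
    have hsz : s * z' ∈ J := by
      simp only [z', mul_sub]
      exact J.sub_mem h (J.mul_mem_left _ (Ideal.sum_mem _ fun i hi => ih i (Finset.mem_range.1 hi)))
    have hc : homogeneousComponent e (s * z') = C (constantCoeff s) * homogeneousComponent e z := by
      conv_lhs => rw [← z'.sum_homogeneousComponent, Finset.mul_sum, map_sum]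
      refine Eq.trans (Finset.sum_congr rfl fun i _ =>
        (?_ : _ = if i = e then C (constantCoeff s) * homogeneousComponent e z else 0)) ?_
      · rw [hz']
        rcases lt_trichotomy i e with hlt | rfl | hgt
        · rw [if_pos hlt, mul_zero, map_zero, if_neg hlt.ne]
        · rw [if_neg (lt_irrefl _), if_pos rfl, ← s.sum_homogeneousComponent, Finset.sum_mul, map_sum]
          rw [Finset.sum_eq_single 0]
          · rw [homogeneousComponent_zero, ← constantCoeff_eq, homogeneousComponent_C_mul,
              homogeneousComponent_of_mem (homogeneousComponent_isHomogeneous i z), if_pos rfl,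
              s.sum_homogeneousComponent]
          · intro j _ hj
            rw [homogeneousComponent_of_mem ((homogeneousComponent_isHomogeneous j s).mul
              (homogeneousComponent_isHomogeneous i z)), if_neg (by omega)]
          · intro h0; exact absurd (Finset.mem_range.2 (Nat.succ_pos _)) h0
        · rw [if_neg (by omega), if_neg hgt.ne', ← s.sum_homogeneousComponent, Finset.sum_mul, map_sum]
          exact Finset.sum_eq_zero fun j _ => by
            rw [homogeneousComponent_of_mem ((homogeneousComponent_isHomogeneous j s).mul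
              (homogeneousComponent_isHomogeneous i z)), if_neg (by omega)]
      · rw [Finset.sum_ite_eq']
        split_ifs with hmem
        · rfl
        · have h0 : homogeneousComponent e z' = 0 :=
            homogeneousComponent_eq_zero _ _ (by rw [Finset.mem_range] at hmem; omega)
          rw [hz', if_neg (lt_irrefl _)] at h0
          rw [h0, mul_zero]
    have h1 := hhom _ hsz e
    rw [hc] at h1
    have h0 : constantCoeff s ≠ 0 := hs
    have h2 := J.mul_mem_left (C (constantCoeff s)⁻¹) h1
    rwa [← mul_assoc, ← C_mul, inv_mul_cancel₀ h0, map_one, one_mul] at h2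

variable (f : Fin r → MvPolynomial (Fin (n + 1)) k) (d : Fin r → ℕ)

/-- The vertex in the quotient. -/
noncomputable abbrev qvertex : Ideal (MvPolynomial (Fin (n + 1)) k ⧸ Ideal.span (Set.range f)) :=
  (vertex k n).map (Ideal.Quotient.mk _)

theorem qvertex_isMaximal (hf : ∀ i, (f i).IsHomogeneous (d i)) (hd : ∀ i, 0 < d i) : (qvertex f).IsMaximal :=
  (Ideal.map_eq_top_or_isMaximal_of_surjective _ Ideal.Quotient.mk_surjective
    (inferInstance : (vertex k n).IsMaximal)).resolve_left fun htop => by
      have h := congrArg (Ideal.comap (Ideal.Quotient.mk (Ideal.span (Set.range f)))) htop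
      rw [Ideal.comap_map_of_surjective _ Ideal.Quotient.mk_surjective, ← RingHom.ker_eq_comap_bot, Ideal.mk_ker,
        sup_eq_left.2 (le_vertex f d hf hd), Ideal.comap_top] at h
      exact (inferInstance : (vertex k n).IsMaximal).ne_top h

theorem comap_qvertex (hf : ∀ i, (f i).IsHomogeneous (d i)) (hd : ∀ i, 0 < d i) :
    (qvertex f).comap (Ideal.Quotient.mk _) = vertex k n := by
  rw [Ideal.comap_map_of_surjective _ Ideal.Quotient.mk_surjective, ← RingHom.ker_eq_comap_bot, Ideal.mk_ker,
    sup_eq_left.2 (le_vertex f d hf hd)]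

theorem mem_qvertex_or (hf : ∀ i, (f i).IsHomogeneous (d i)) (hd : ∀ i, 0 < d i)
    (Q : Ideal (MvPolynomial (Fin (n + 1)) k ⧸ Ideal.span (Set.range f))) [Q.IsPrime] :
    Q = qvertex f ∨ ∃ i, Ideal.Quotient.mk (Ideal.span (Set.range f)) (MvPolynomial.X i) ∉ Q := by
  by_cases h : ∃ i, Ideal.Quotient.mk (Ideal.span (Set.range f)) (MvPolynomial.X i) ∉ Q
  · exact .inr h
  · push Not at h
    refine .inl ?_
    rw [← Ideal.map_comap_of_surjective _ Ideal.Quotient.mk_surjective Q,
      eq_vertex (P := Q.comap (Ideal.Quotient.mk _)) h]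

theorem cm_of_surjective {A B : Type u} [CommRing A] [IsLocalRing A] [IsNoetherianRing A] [CommRing B] [IsLocalRing B]
    [IsNoetherianRing B] (φ : A →+* B) (hs : Function.Surjective φ) (I : Ideal A) (hker : RingHom.ker φ = I)
    (h : LocCoh.IsCohenMacaulayModule A (A ⧸ I)) : LocCoh.IsCohenMacaulayLocalRing B := by
  subst hker
  letI := φ.toAlgebra
  haveI : Module.Finite A B := Module.Finite.of_surjective (Algebra.linearMap A B) hs
  rw [Depth.isCohenMacaulayLocalRing_iff, Depth.isCohenMacaulayModule_iff_of_surjective (R := A) (S := B) (N := B) hs]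
  exact (Depth.isCohenMacaulayModule_congr (((Algebra.linearMap A B).quotKerEquivOfSurjective hs))).1 h

/-- A local ring with normal localization at the maximal ideal is normal. -/
theorem normal_of_localization (T : Type u) [CommRing T] [IsLocalRing T]
    (hN : IsDomain (Localization.AtPrime (IsLocalRing.maximalIdeal T)) ∧
      IsIntegrallyClosed (Localization.AtPrime (IsLocalRing.maximalIdeal T))) :
    IsDomain T ∧ IsIntegrallyClosed T := by
  let eU : T ≃+* Localization.AtPrime (IsLocalRing.maximalIdeal T) :=
    (IsLocalization.atUnits T (IsLocalRing.maximalIdeal T).primeCompl fun x hx =>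
      not_not.1 fun hu => hx ((IsLocalRing.mem_maximalIdeal x).2 hu)).toRingEquiv
  haveI := hN.1
  haveI := hN.2
  exact ⟨eU.toMulEquiv.isDomain, IsIntegrallyClosed.of_equiv eU.symm⟩

theorem isDomain_and_vertex_normal (hr : r < n) (hf : ∀ i, (f i).IsHomogeneous (d i)) (hd : ∀ i, 0 < d i)
    (hJ : (Ideal.span (Set.range f)).height = r)
    (hreg : ∀ (Q : Ideal (MvPolynomial (Fin (n + 1)) k ⧸ Ideal.span (Set.range f))) [Q.IsPrime],
      (∃ i, Ideal.Quotient.mk (Ideal.span (Set.range f)) (MvPolynomial.X i) ∉ Q) → Q.height ≤ 1 →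
        IsRegularLocalRing (Localization.AtPrime Q)) :
    IsDomain (MvPolynomial (Fin (n + 1)) k ⧸ Ideal.span (Set.range f)) ∧
      ∀ (Q : Ideal (MvPolynomial (Fin (n + 1)) k ⧸ Ideal.span (Set.range f))) [Q.IsPrime], Q = qvertex f →
        IsDomain (Localization.AtPrime Q) ∧ IsIntegrallyClosed (Localization.AtPrime Q) := by
  classical
  set J := Ideal.span (Set.range f) with hJdef
  let M := vertex k n
  haveI := qvertex_isMaximal f d hf hd
  haveI hV : (qvertex f).IsPrime := (qvertex_isMaximal f d hf hd).isPrime
  let T := Localization.AtPrime (qvertex f)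
  haveI hM : M.IsPrime := RingHom.ker_isPrime _
  let L := Localization.AtPrime M
  haveI : IsRegularLocalRing L := isRegularRing_iff.mp inferInstance M
  have hCM := Depth.isCohenMacaulayModule_self (R := L)
    (h := Depth.isCohenMacaulayLocalRing_of_isRegularLocalRing)
  set a := algebraMap (MvPolynomial (Fin (n + 1)) k) L
  let xs : List L := List.ofFn fun i => a (f i)
  have hofList : Ideal.ofList xs = J.map a := by
    rw [hJdef, Ideal.map_span, Ideal.ofList]
    congr 1
    ext z
    simp [xs, List.mem_ofFn]
  have hxs : ∀ x ∈ xs, x ∈ IsLocalRing.maximalIdeal L := by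
    intro x hx
    obtain ⟨i, rfl⟩ := List.mem_ofFn.mp hx
    rw [← Localization.AtPrime.map_eq_maximalIdeal]
    exact Ideal.mem_map_of_mem _ (le_vertex f d hf hd (Ideal.subset_span ⟨i, rfl⟩))
  have hdimL : (n + 1 : ℕ) ≤ ringKrullDim L := by
    rw [IsLocalization.AtPrime.ringKrullDim_eq_height M L]
    exact WithBot.coe_le_coe.mpr (S10903.le_height_ker_constantCoeff k (n + 1))
  let JL := Ideal.ofList xs
  have hJLm : JL ≤ IsLocalRing.maximalIdeal L := Ideal.span_le.mpr hxs
  haveI : Nontrivial (L ⧸ JL) :=
    Ideal.Quotient.nontrivial_iff.mpr fun h =>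
      (IsLocalRing.maximalIdeal.isMaximal L).ne_top (top_le_iff.mp (h ▸ hJLm))
  haveI : IsLocalRing (L ⧸ JL) := IsLocalRing.of_surjective' _ Ideal.Quotient.mk_surjective
  obtain ⟨e, he', -⟩ := RegLoc.exists_natCast_eq_ringKrullDim (L ⧸ JL)
  have he := he'.symm
  obtain ⟨D, hD', -⟩ := RegLoc.exists_natCast_eq_ringKrullDim L
  have hD := hD'.symm
  have h1 : D ≤ e + r := by
    have := ringKrullDim_le_ringKrullDim_quotient_add_card (R := L) xs.toFinset (fun x hx => by
      rw [IsLocalRing.ringJacobson_eq_maximalIdeal]
      exact hxs x (List.mem_toFinset.mp hx))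
    rw [List.coe_toFinset] at this
    change ringKrullDim L ≤ ringKrullDim (L ⧸ JL) + _ at this
    rw [← he, ← hD] at this
    have hc : xs.toFinset.card ≤ r := (List.toFinset_card_le _).trans_eq (by simp [xs])
    have h' : D ≤ e + xs.toFinset.card := by exact_mod_cast this
    omega
  have h2 : e + r ≤ D := by
    have := S10903.ringKrullDim_quotient_add_le JL r (fun q hq hle => by
      rw [← hJ, ← IsLocalization.height_under M.primeCompl q]
      exact Ideal.height_mono fun z hz => hle (by
        show a z ∈ Ideal.ofList xs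
        rw [hofList]; exact Ideal.mem_map_of_mem a hz)) e he.le
    rw [← hD] at this
    exact_mod_cast this
  have he2 : 2 ≤ e := by
    rw [← hD] at hdimL
    have : n + 1 ≤ D := by exact_mod_cast hdimL
    omega
  have hsupp : ∀ I : Ideal L, Module.supportDim L (L ⧸ (I • (⊤ : Submodule L L))) = ringKrullDim (L ⧸ I) :=
    fun I => by
      rw [Module.supportDim_eq_of_equiv (Submodule.quotEquivOfEq _ I
        (by rw [smul_eq_mul, Ideal.mul_top]))]
      exact Module.supportDim_quotient_eq_ringKrullDim I
  have hwreg : RingTheory.Sequence.IsWeaklyRegular L xs := by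
    rw [(S5758.result L L hCM xs hxs).1, hsupp, Module.supportDim_self_eq_ringKrullDim]
    change ringKrullDim (L ⧸ JL) + _ = _
    rw [← he, ← hD, show xs.length = r by simp [xs]]
    exact_mod_cast le_antisymm h2 h1
  have hCMq := Depth.isCohenMacaulayModule_congr (Submodule.quotEquivOfEq _ JL
    (by rw [smul_eq_mul, Ideal.mul_top])) |>.mp ((S5758.result L L hCM xs hxs).2 hwreg)
  -- compare with the localization of the quotient
  have hcomap : M = (qvertex f).comap (Ideal.Quotient.mk J) := (comap_qvertex f d hf hd).symm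
  let φ : L →+* T := Localization.localRingHom M (qvertex f) (Ideal.Quotient.mk J) hcomap
  have hs : Function.Surjective φ := by
    intro z
    obtain ⟨a, ⟨s, hs⟩, rfl⟩ := IsLocalization.exists_mk'_eq (qvertex f).primeCompl z
    obtain ⟨a, rfl⟩ := Ideal.Quotient.mk_surjective a
    obtain ⟨s, rfl⟩ := Ideal.Quotient.mk_surjective s
    exact ⟨IsLocalization.mk' _ a (⟨s, fun hm => hs (Ideal.mem_map_of_mem _ hm)⟩ : M.primeCompl),
      Localization.localRingHom_mk' _ _ _ _ _ _⟩
  have hker : RingHom.ker φ = JL := by
    apply le_antisymm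
    · intro z hz
      obtain ⟨b, s, rfl⟩ := IsLocalization.exists_mk'_eq M.primeCompl z
      rw [RingHom.mem_ker, Localization.localRingHom_mk', IsLocalization.mk'_eq_zero_iff] at hz
      obtain ⟨⟨m, hm⟩, hmb⟩ := hz
      obtain ⟨m, rfl⟩ := Ideal.Quotient.mk_surjective m
      rw [← map_mul, Ideal.Quotient.eq_zero_iff_mem] at hmb
      show _ ∈ Ideal.ofList xs
      rw [hofList]
      exact IsLocalization.mk'_mem_iff.2 (Ideal.mem_map_of_mem a
        (mem_of_mul_mem f d hf (fun h => hm (Ideal.mem_map_of_mem _ h)) hmb))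
    · show Ideal.ofList xs ≤ _
      rw [hofList, Ideal.map_le_iff_le_comap]
      intro z hz
      rw [Ideal.mem_comap, RingHom.mem_ker, Localization.localRingHom_to_map,
        Ideal.Quotient.eq_zero_iff_mem.2 hz, map_zero]
  haveI : LocCoh.IsCohenMacaulayLocalRing T := cm_of_surjective φ hs JL hker hCMq
  have hdimT : ringKrullDim T = (e : WithBot ℕ∞) := by
    rw [he]
    exact (ringKrullDim_eq_of_ringEquiv ((Ideal.quotEquivOfEq hker.symm).trans
      (RingHom.quotientKerEquivOfSurjective hs))).symm
  have hR1 : LocCoh.HasRk 1 T := by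
    intro q _ hq
    set Q := q.comap (algebraMap (MvPolynomial (Fin (n + 1)) k ⧸ J) T)
    haveI : IsLocalization.AtPrime (Localization.AtPrime q) Q :=
      IsLocalization.isLocalization_isLocalization_atPrime_isLocalization (qvertex f).primeCompl _ q
    have hQh : Q.height ≤ 1 := by
      rw [IsLocalization.height_under (qvertex f).primeCompl q]
      exact_mod_cast hq
    rcases mem_qvertex_or f d hf hd Q with hQ | hQ
    · exfalso
      have : ringKrullDim T = (Q.height : WithBot ℕ∞) := by
        rw [hQ]; exact IsLocalization.AtPrime.ringKrullDim_eq_height (qvertex f) T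
      rw [hdimT] at this
      have h3 : (e : ℕ∞) ≤ 1 := (WithBot.coe_le_coe.1 this.le).trans hQh
      exact absurd (by exact_mod_cast h3 : e ≤ 1) (by omega)
    · haveI := hreg Q hQ hQh
      exact IsRegularLocalRing.of_ringEquiv (R := Localization.AtPrime Q) (IsLocalization.algEquiv Q.primeCompl
        (Localization.AtPrime Q) (Localization.AtPrime q)).toRingEquiv
  have hS2 : LocCoh.HasSk 2 T T :=
    CAlgA.NormalRegular.hasSk_two fun p _ => Depth.isCohenMacaulayLocalRing_localization p
  have hN := (RegLoc.Serre.serre_criterion (R := T)).2 ⟨hR1, hS2⟩ (IsLocalRing.maximalIdeal T)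
  obtain ⟨hTd, hTn⟩ := normal_of_localization T hN
  have hinj : Function.Injective (algebraMap (MvPolynomial (Fin (n + 1)) k ⧸ J) T) := by
    rw [injective_iff_map_eq_zero]
    intro z hz
    obtain ⟨z, rfl⟩ := Ideal.Quotient.mk_surjective z
    obtain ⟨⟨m, hm⟩, hmz⟩ := (IsLocalization.map_eq_zero_iff (qvertex f).primeCompl T _).1 hz
    obtain ⟨m, rfl⟩ := Ideal.Quotient.mk_surjective m
    rw [← map_mul, Ideal.Quotient.eq_zero_iff_mem] at hmz
    exact Ideal.Quotient.eq_zero_iff_mem.2
      (mem_of_mul_mem f d hf (fun h => hm (Ideal.mem_map_of_mem _ h)) hmz)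
  refine ⟨hinj.isDomain _, fun Q _ hQ => ?_⟩
  subst hQ
  exact ⟨hTd, hTn⟩

end Groth.Agent.CIntNormal
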